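import Cfsg.Agent.LE.J3U.T6Data

/-! Coset enumeration certificate (generated; owner: helper80, tool of helper28). -/

set_option autoImplicit false
set_option maxRecDepth 1000000

namespace Cfsg.Agent.CosetEnum.J3U
open Cfsg.Agent.CosetEnum Cfsg.Agent.CosetEnum.Part
namespace T6

def ck2 : CK := .cons 64 64 0x42000000200000001100c80000006200100000012000040000800400031001100080048000001100c80021038808400000001001901080840000008802403200900c8024000880e4002405202900480048002901c808400005200000000001101c800c80048044012019000801c808404200004092000a400019000901080029000000000084000400000a403201900c8000800000002005200000620006400840420001880a41620a10021010806400148024000080040020210003203900880640220190000029000800012001000001900080000040020190008284002039010800402200900480c40c2039024800408200020290000048084006407200420002409200e20290000a4022000e400640024022029010800000400002200020001480840000000520210000000000000000021000901880c4002002202101080e40024062002201900080040020012019018803480640020210001000000020000000000880008000800000052000000440f202101881040020390208002901c800c8004808410200000000084001880001014808400088000000000000000000000000008800090000000640000520000000000022019002101080440084000290039001100000000880000000000000004200018800080008000000004800c804401202901880004200008800000480001000002901080001000000 ( .cons 37 37 0x42000188024022000000019000900880a4000c80188000024000062000008000220062000008024042000188008800400201101c801c801880640120190008004004400000440320210108001901c80008044032000200420110000a4042000009004800414200008800480040220010019000800480048018800400040020010108002900482c401201100110108001901c8024142011004800400c400a400029010808400c40220090021000900880a4000004400000000001000620052000040000420000000000880000000000440320001080000008044032000200420000000010039000810400640620004400000000088084042041000420290000000002200120310000202901080007202900c8000000801080000048084000400a4062000a40420090011000000120290000c4000000022021010810400040020210108000000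 ( .nil ))

theorem part2 : CosetEnum.chunks P L 8165 ck2 8064 101 = true := by decide +kernel

end T6
end Cfsg.Agent.CosetEnum.J3U
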